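import Groth.Agent.Lib.QuasiDom6.Center
import Groth.Agent.Lib.BlowUp6.Separated
import Groth.Agent.Lib.BlowUp.Exists

/-!
# Quasi-dominations extend after an admissible blow-up
-/

universe u

open CategoryTheory Limits AlgebraicGeometry Opposite TopologicalSpace IsLocalRing

namespace GrothLib.QuasiDom6

/-- One centre for finitely many. -/
theorem exists_product {X : Scheme.{u}} (V : X.Opens) :
    ∀ {n : ℕ} (E : Fin n → X.IdealSheafData), (∀ i, BlowUp.IsFiniteTypeIdeal (E i)) →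
      (∀ i, Disjoint ((E i).support : Set X) (V : Set X)) →
      ∃ I : X.IdealSheafData, BlowUp.IsAdmissibleFor V I ∧ ∀ {Xt : Scheme.{u}} (q : Xt ⟶ X),
        BlowUp.IsEffCartierIdeal (I.comap q) → ∀ i, BlowUp.IsEffCartierIdeal ((E i).comap q)
  | 0, E, _, _ => ⟨⊤, ⟨fun W => by
      rw [Scheme.IdealSheafData.ideal_top, Pi.top_apply]; exact ⟨{1}, by simp⟩, by simp⟩,
      fun _ _ i => i.elim0⟩
  | n + 1, E, hfg, hd => by
    obtain ⟨I, ⟨hI, hId⟩, hIE⟩ := exists_product V (fun i => E i.succ) (fun i => hfg _) (fun i => hd _)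
    refine ⟨E 0 * I, ⟨fun W => ?_, ?_⟩, fun {Xt} q hq i => ?_⟩
    · rw [Scheme.IdealSheafData.ideal_mul, Pi.mul_apply]
      exact Submodule.FG.mul (hfg 0 W) (hI W)
    · rw [Scheme.IdealSheafData.support_mul]
      exact (hd 0).union_left hId
    · rw [FSchSys.comap_mul] at hq
      obtain ⟨h0, h1⟩ := GrothLib.BlowUp.isEffCartierIdeal_factors_of_mul hq
      induction i using Fin.cases with
      | zero => exact h0
      | succ i => exact hIE q h1 i

/-- The complement of an effective Cartier divisor is dense. -/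
theorem dense_compl_support {P : Scheme.{u}} {I : P.IdealSheafData}
    (hI : BlowUp.IsEffCartierIdeal I) : Dense ((I.support : Set P)ᶜ) := by
  rw [dense_iff_inter_open]
  intro O hO ⟨x, hx⟩
  obtain ⟨W, hxW, hWO, e, he, heI⟩ := GrothLib.BlowUp.exists_cartierOn_le hI (W := ⟨O, hO⟩) (x := x) hx
  by_contra hem
  have hsub : Disjoint (P.basicOpen e : Set P) (I.support : Set P) :=
    GrothLib.BlowUp.disjoint_basicOpen_support (heI.ge (Ideal.mem_span_singleton_self e))
  have hbot : P.basicOpen e = ⊥ := by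
    rw [eq_bot_iff]
    intro y hy
    exact absurd ⟨y, hWO (P.basicOpen_le e hy), Set.disjoint_left.mp hsub hy⟩ hem
  have hnil : IsNilpotent e := (Scheme.isNilpotent_iff_basicOpen_eq_bot_of_isCompact W.2.isCompact e).mpr hbot
  have : Nontrivial Γ(P, W.1) := by
    have : Nonempty W.1 := ⟨⟨x, hxW⟩⟩
    infer_instance
  obtain ⟨n, hn⟩ := hnil
  exact zero_notMem_nonZeroDivisors (hn ▸ pow_mem he n)

/-- Quasi-dominations extend after a blow-up whose centre has support the complement of `V`. -/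
theorem exists_quasiDomination_extending' {S X Y : Scheme.{u}} [QuasiSeparatedSpace S]
    [CompactSpace X] [QuasiSeparatedSpace X] [CompactSpace Y] [QuasiSeparatedSpace Y]
    (pX : X ⟶ S) (pY : Y ⟶ S) [IsSeparated pY] [LocallyOfFiniteType pY]
    (U V : X.Opens) (hUV : U ≤ V) (hU : IsCompact (U : Set X)) (hV : IsCompact (V : Set X))
    (hUd : (V : Set X) ⊆ closure (U : Set X))
    (f : (U : Scheme.{u}) ⟶ Y) (hf : U.ι ≫ pX = f ≫ pY)
    (hcl : closure (Set.range (fun x => pullback.lift U.ι f hf x)) ∩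
        ((pullback.fst pX pY) ⁻¹ᵁ V : Set ↥(pullback pX pY)) ⊆ Set.range (fun x => pullback.lift U.ι f hf x)) :
    ∃ (𝓘 : X.IdealSheafData) (Xt : Scheme.{u}) (q : Xt ⟶ X),
      BlowUp.IsBlowUp q 𝓘 ∧ BlowUp.IsAdmissibleFor V 𝓘 ∧ (𝓘.support : Set X) = (V : Set X)ᶜ ∧
      ∃ (W : Xt.Opens) (hle : q ⁻¹ᵁ U ≤ W) (ft : (W : Scheme.{u}) ⟶ Y) (hft : W.ι ≫ q ≫ pX = ft ≫ pY),
        Dense (W : Set Xt) ∧ Xt.homOfLE hle ≫ ft = (q ∣_ U) ≫ f ∧
        IsClosed (Set.range (fun x => pullback.lift W.ι ft hft x)) := by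
  classical
  obtain ⟨B, hB, hBs⟩ := FgSupport6.exists_fg_support_eq V hV
  have hchart : ∀ y : Y, ∃ (Sj : S.affineOpens) (T : Y.affineOpens), y ∈ T.1 ∧ T.1 ≤ pY ⁻¹ᵁ Sj.1 :=
    fun y => FSchSys.exists_affine_pair pY y
  choose Sj T hyT hTS using hchart
  obtain ⟨s, hs⟩ := isCompact_univ.elim_finite_subcover (fun y : Y => ((T y).1 : Set Y))
    (fun y => (T y).1.2) fun y _ => Set.mem_iUnion.2 ⟨y, hyT y⟩
  let idx : Fin s.toList.length → Y := fun i => s.toList.get i
  choose E hE hEd hEgood using fun i => exists_center pX pY f hf hU V B hB hBs hcl (Sj (idx i)) (T (idx i)) (hTS _)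
  obtain ⟨I₀, hI₀, hI₀E⟩ := exists_product V E hE hEd
  have hIs : ((B * I₀).support : Set X) = (V : Set X)ᶜ := by
    rw [Scheme.IdealSheafData.support_mul]
    simp only [Closeds.coe_sup, hBs, Set.union_eq_left]
    exact fun x hx hxV => Set.disjoint_left.mp hI₀.2 hx hxV
  have hI : BlowUp.IsAdmissibleFor V (B * I₀) := by
    refine ⟨fun W' => ?_, ?_⟩
    · rw [Scheme.IdealSheafData.ideal_mul, Pi.mul_apply]
      exact Submodule.FG.mul (hB W') (hI₀.1 W')
    · rw [hIs]; exact disjoint_compl_left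
  let I := B * I₀
  have hIE : ∀ {Xt : Scheme.{u}} (q : Xt ⟶ X), BlowUp.IsEffCartierIdeal (I.comap q) →
      ∀ i, BlowUp.IsEffCartierIdeal ((E i).comap q) := fun q hq => by
    rw [FSchSys.comap_mul] at hq
    exact hI₀E q (GrothLib.BlowUp.isEffCartierIdeal_factors_of_mul hq).2
  obtain ⟨Xt, q, hq⟩ := GrothLib.BlowUp.exists_isBlowUp X I
  let W : Xt.Opens := ⨆ O : {O : Xt.Opens // Good pX pY q f O}, O.1
  have hW : ∀ x ∈ W, ∃ O ≤ W, x ∈ O ∧ Good pX pY q f O := fun x hx => by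
    obtain ⟨O, hO⟩ := Opens.mem_iSup.mp hx
    exact ⟨O.1, le_iSup (fun O : {O : Xt.Opens // Good pX pY q f O} => O.1) O, hO, O.2⟩
  obtain ⟨ft, hft, hagree⟩ := exists_glue pX pY q f W hW
  have hle : q ⁻¹ᵁ U ≤ W :=
    le_iSup (fun O : {O : Xt.Opens // Good pX pY q f O} => O.1) ⟨_, good_preimage pX pY q f hf⟩
  have hagree' : Xt.homOfLE hle ≫ ft = (q ∣_ U) ≫ f := by
    have hle' : q ⁻¹ᵁ U ≤ W ⊓ q ⁻¹ᵁ U := le_inf hle le_rfl
    have := congr(Xt.homOfLE hle' ≫ $hagree)
    rw [← Category.assoc, Scheme.homOfLE_homOfLE] at this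
    refine this.trans ?_
    rw [← Category.assoc]
    congr 1
    rw [← cancel_mono U.ι]
    simp
  have hiso := GrothLib.BlowUp.isIso_off_center hq
  have hoff : V ≤ I.support.compl := fun x hx h => Set.disjoint_left.mp hI.2 h hx
  have hhomeo : ∀ M : X.Opens, M ≤ I.support.compl →
      (q ⁻¹' (M : Set X)) = (fun x => (q ⁻¹ᵁ I.support.compl).ι
        ((inv (q ∣_ I.support.compl)) x)) '' ((Scheme.Opens.ι I.support.compl) ⁻¹' (M : Set X)) := by
    intro M hM
    ext x
    constructor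
    · intro hx
      refine ⟨(q ∣_ I.support.compl) ⟨x, hM hx⟩, ?_, ?_⟩
      · show Scheme.Opens.ι I.support.compl ((q ∣_ I.support.compl) ⟨x, hM hx⟩) ∈ M
        rw [← Scheme.Hom.comp_apply, morphismRestrict_ι]
        exact hx
      · show (q ⁻¹ᵁ I.support.compl).ι ((inv (q ∣_ I.support.compl)) ((q ∣_ I.support.compl) ⟨x, hM hx⟩)) = x
        rw [← Scheme.Hom.comp_apply, ← Scheme.Hom.comp_apply, IsIso.hom_inv_id_assoc]
        rfl
    · rintro ⟨z, hz, rfl⟩
      show q ((q ⁻¹ᵁ I.support.compl).ι ((inv (q ∣_ I.support.compl)) z)) ∈ M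
      rw [← Scheme.Hom.comp_apply, ← Scheme.Hom.comp_apply, ← morphismRestrict_ι,
        IsIso.inv_hom_id_assoc]
      exact hz
  have hcompU : IsCompact ((q ⁻¹ᵁ U : Xt.Opens) : Set Xt) := by
    show IsCompact (q ⁻¹' (U : Set X))
    rw [hhomeo U (hUV.trans hoff)]
    refine IsCompact.image ?_ (by fun_prop)
    refine ((Scheme.Opens.ι I.support.compl).isOpenEmbedding.isInducing.isCompact_preimage' hU ?_)
    rw [Scheme.Opens.range_ι]
    exact hUV.trans hoff
  have hdense : Dense ((q ⁻¹ᵁ U : Xt.Opens) : Set Xt) := by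
    rw [dense_iff_inter_open]
    intro O hO hne
    obtain ⟨x, hxO, hx⟩ := (dense_iff_inter_open.mp (dense_compl_support hq.1)) O hO hne
    rw [Set.mem_compl_iff, Scheme.IdealSheafData.support_comap] at hx
    let O' : (q ⁻¹ᵁ I.support.compl).toScheme.Opens := (q ⁻¹ᵁ I.support.compl).ι ⁻¹ᵁ ⟨O, hO⟩
    have hopen : IsOpen ((fun z => Scheme.Opens.ι I.support.compl ((q ∣_ I.support.compl) z)) '' O') :=
      ((Scheme.Opens.ι I.support.compl).isOpenEmbedding.comp
        (q ∣_ I.support.compl).isOpenEmbedding).isOpenMap _ O'.2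
    have hxV : q x ∈ (V : Set X) := by
      have : q x ∉ (I.support : Set X) := hx
      rw [hIs] at this
      simpa using this
    obtain ⟨_, ⟨z, hz, rfl⟩, hzU⟩ := mem_closure_iff.mp (hUd hxV) _ hopen ⟨⟨x, hx⟩, hxO, by
      show Scheme.Opens.ι I.support.compl ((q ∣_ I.support.compl) ⟨x, hx⟩) = q x
      rw [← Scheme.Hom.comp_apply, morphismRestrict_ι]
      rfl⟩
    refine ⟨_, hz, ?_⟩
    show q ((q ⁻¹ᵁ I.support.compl).ι z) ∈ U
    rw [← Scheme.Hom.comp_apply, ← morphismRestrict_ι]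
    exact hzU
  refine ⟨I, Xt, q, hq, hI, hIs, W, hle, ft, hft, hdense.mono hle, hagree', ?_⟩
  -- the graph is closed
  let Γt := pullback.lift W.ι ft hft
  rw [← closure_subset_iff_isClosed]
  intro z hz
  let g₀ : (q ⁻¹ᵁ U).toScheme ⟶ pullback (q ≫ pX) pY := Xt.homOfLE hle ≫ Γt
  have hz' : z ∈ closure (Set.range g₀) := by
    refine closure_minimal ?_ isClosed_closure hz
    rintro _ ⟨x, rfl⟩
    have hxd : x ∈ closure (Set.range (Xt.homOfLE hle)) := by
      rw [W.ι.isOpenEmbedding.isInducing.closure_eq_preimage_closure_image, Set.mem_preimage,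
        ← Set.range_comp, ← TopCat.coe_comp, ← Scheme.Hom.comp_base, Scheme.homOfLE_ι,
        Scheme.Opens.range_ι, hdense.closure_eq]
      trivial
    have := image_closure_subset_closure_image Γt.continuous ⟨x, hxd, rfl⟩
    rwa [← Set.range_comp, ← TopCat.coe_comp, ← Scheme.Hom.comp_base] at this
  have hsepq := BlowUp6.isSeparated_of_isBlowUp hq
  have : QuasiSeparatedSpace Xt := quasiSeparatedSpace_of_quasiSeparated q
  have : QuasiSeparatedSpace (pullback (q ≫ pX) pY : Scheme.{u}) :=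
    quasiSeparatedSpace_of_quasiSeparated (pullback.fst (q ≫ pX) pY)
  have : QuasiCompact g₀ := by
    have : CompactSpace (q ⁻¹ᵁ U).toScheme := isCompact_iff_compactSpace.mp hcompU
    have : QuasiCompact (g₀ ≫ terminal.from _) := inferInstance
    have : QuasiSeparated (terminal.from (pullback (q ≫ pX) pY : Scheme.{u})) :=
      quasiSeparated_iff_quasiSeparatedSpace _ |>.mpr ‹_›
    exact QuasiCompact.of_comp g₀ (terminal.from _)
  obtain ⟨A, _, _, _, K, _, _, _, a, φ, ha, hφ⟩ := BlowUp6.exists_valuation_arc g₀ z hz'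
  obtain ⟨i, hi⟩ : ∃ i, pullback.snd (q ≫ pX) pY z ∈ (T (idx i)).1 := by
    obtain ⟨y, hy, hzy⟩ := Set.mem_iUnion₂.mp (hs (Set.mem_univ (pullback.snd (q ≫ pX) pY z)))
    obtain ⟨i, hi⟩ := List.get_of_mem (Finset.mem_toList.mpr hy)
    exact ⟨i, by show _ ∈ (T (s.toList.get i)).1; rw [hi]; exact hzy⟩
  have harc : ArcAt pX pY f q (T (idx i)).1 (pullback.fst (q ≫ pX) pY z) := by
    refine ⟨A, inferInstance, inferInstance, inferInstance, K, inferInstance, inferInstance,
      inferInstance, a ≫ q ∣_ U, φ ≫ pullback.fst _ _, φ ≫ pullback.snd _ _, ?_, ?_, ?_, ?_, ?_⟩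
    · simp only [Category.assoc, pullback.condition]
    · simp only [Category.assoc, reassoc_of% ha, g₀, Γt, pullback.lift_fst_assoc,
        Scheme.homOfLE_ι_assoc, morphismRestrict_ι]
    · simp only [Category.assoc, reassoc_of% ha, g₀, Γt, pullback.lift_snd, hagree']
    · rw [Scheme.Hom.comp_apply, hφ]
    · rw [Scheme.Hom.comp_apply, hφ]; exact hi
  obtain ⟨O, hyO, hO⟩ := hEgood i q (hIE q hq.1 i) _ harc
  have hyW : pullback.fst (q ≫ pX) pY z ∈ W :=
    le_iSup (fun O : {O : Xt.Opens // Good pX pY q f O} => O.1) ⟨O, hO⟩ hyO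
  -- the graph is closed over `W`
  let m : pullback (W.ι ≫ q ≫ pX) pY ⟶ pullback (q ≫ pX) pY :=
    pullback.map _ _ _ _ W.ι (𝟙 Y) (𝟙 S) (by simp) (by simp)
  let γ : W.toScheme ⟶ pullback (W.ι ≫ q ≫ pX) pY := pullback.lift (𝟙 _) ft (by rw [Category.id_comp, hft])
  have hγm : γ ≫ m = Γt := by
    refine pullback.hom_ext ?_ ?_
    · simp only [γ, m, Γt, pullback.map, Category.assoc, pullback.lift_fst, pullback.lift_fst_assoc]
      simp
    · simp only [γ, m, Γt, pullback.map, Category.assoc, pullback.lift_snd, pullback.lift_snd_assoc]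
      simp
  have : IsClosedImmersion γ := by
    have h := (inferInstance : IsClosedImmersion (pullback.lift (𝟙 _) ft (Category.id_comp (ft ≫ pY))))
    rw [show γ = pullback.lift (𝟙 _) ft (Category.id_comp (ft ≫ pY)) ≫ (pullback.congrHom hft.symm rfl).hom by
      refine pullback.hom_ext ?_ ?_ <;> simp only [γ, Category.assoc, pullback.congrHom_hom, pullback.map, pullback.lift_fst, pullback.lift_snd, pullback.lift_fst_assoc, pullback.lift_snd_assoc, Category.comp_id]]
    infer_instance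
  have : IsOpenImmersion m := by
    dsimp only [m]; infer_instance
  have hzm : z ∈ Set.range m := by
    rw [Scheme.Pullback.range_map]
    refine ⟨?_, ?_⟩
    · rw [Set.mem_preimage, Scheme.Opens.range_ι]; exact hyW
    · simp
  obtain ⟨w, rfl⟩ := hzm
  have hw : w ∈ closure (Set.range γ) := by
    rw [m.isOpenEmbedding.isInducing.closure_eq_preimage_closure_image, Set.mem_preimage,
      ← Set.range_comp, ← TopCat.coe_comp, ← Scheme.Hom.comp_base, hγm]
    exact hz
  rw [γ.isClosedEmbedding.isClosed_range.closure_eq] at hw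
  obtain ⟨x, rfl⟩ := hw
  exact ⟨x, by show Γt x = m (γ x); rw [← Scheme.Hom.comp_apply, hγm]⟩

/-- Quasi-dominations extend after an admissible blow-up. -/
theorem exists_quasiDomination_extending {S X Y : Scheme.{u}} [QuasiSeparatedSpace S]
    [CompactSpace X] [QuasiSeparatedSpace X] [CompactSpace Y] [QuasiSeparatedSpace Y]
    (pX : X ⟶ S) (pY : Y ⟶ S) [IsSeparated pY] [LocallyOfFiniteType pY]
    (U V : X.Opens) (hUV : U ≤ V) (hU : IsCompact (U : Set X)) (hV : IsCompact (V : Set X))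
    (hUd : Dense (U : Set X))
    (f : (U : Scheme.{u}) ⟶ Y) (hf : U.ι ≫ pX = f ≫ pY)
    (hcl : closure (Set.range (fun x => pullback.lift U.ι f hf x)) ∩
        ((pullback.fst pX pY) ⁻¹ᵁ V : Set ↥(pullback pX pY)) ⊆ Set.range (fun x => pullback.lift U.ι f hf x)) :
    ∃ (𝓘 : X.IdealSheafData) (Xt : Scheme.{u}) (q : Xt ⟶ X),
      BlowUp.IsBlowUp q 𝓘 ∧ BlowUp.IsAdmissibleFor V 𝓘 ∧
      ∃ (W : Xt.Opens) (hle : q ⁻¹ᵁ U ≤ W) (ft : (W : Scheme.{u}) ⟶ Y) (hft : W.ι ≫ q ≫ pX = ft ≫ pY),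
        Dense (W : Set Xt) ∧ Xt.homOfLE hle ≫ ft = (q ∣_ U) ≫ f ∧
        IsClosed (Set.range (fun x => pullback.lift W.ι ft hft x)) := by
  obtain ⟨I, Xt, q, hq, hI, -, h⟩ := exists_quasiDomination_extending' pX pY U V hUV hU hV
    (fun x _ => hUd x) f hf hcl
  exact ⟨I, Xt, q, hq, hI, h⟩

end GrothLib.QuasiDom6
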