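import Groth.Agent.Lib.QuasiDom6.Glue
import Groth.Agent.Lib.FSchSys.PowLE
import Mathlib.AlgebraicGeometry.Morphisms.FiniteType
import Mathlib.AlgebraicGeometry.Morphisms.QuasiSeparated

/-!
# The centre attached to an affine chart of the target
-/

universe u

open CategoryTheory Limits AlgebraicGeometry Opposite TopologicalSpace IsLocalRing

namespace GrothLib.QuasiDom6

open GrothLib.Thickening (res res_res res_self)

variable {S X Y : Scheme.{u}} (pX : X ⟶ S) (pY : Y ⟶ S) {U : X.Opens} (f : U.toScheme ⟶ Y)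

/-- An arc in `Xt ×_S Y` over the graph of `f`, closing up at `y` with limit in `T`. -/
def ArcAt {Xt : Scheme.{u}} (q : Xt ⟶ X) (T : Y.Opens) (y : Xt) : Prop :=
  ∃ (A : Type u) (_ : CommRing A) (_ : IsDomain A) (_ : ValuationRing A) (K : Type u) (_ : Field K)
    (_ : Algebra A K) (_ : IsFractionRing A K) (a : Spec (.of K) ⟶ U.toScheme)
    (φ : Spec (.of A) ⟶ Xt) (φY : Spec (.of A) ⟶ Y),
    φ ≫ q ≫ pX = φY ≫ pY ∧
    Spec.map (CommRingCat.ofHom (algebraMap A K)) ≫ φ ≫ q = a ≫ U.ι ∧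
    Spec.map (CommRingCat.ofHom (algebraMap A K)) ≫ φY = a ≫ f ∧
    φ (closedPoint A) = y ∧ φY (closedPoint A) ∈ T

/-- The finitely many generators of an affine morphism of finite type. -/
theorem exists_gens [LocallyOfFiniteType pY] {Sj : S.Opens} (hSj : IsAffineOpen Sj) {T : Y.Opens}
    (hT : IsAffineOpen T) (e : T ≤ pY ⁻¹ᵁ Sj) :
    ∃ G : Finset Γ(T.toScheme, ⊤),
      Subring.closure (Set.range (pY.resLE Sj T e).appTop ∪ G) = ⊤ := by
  classical
  have hft := pY.finiteType_appLE hSj hT e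
  algebraize [(pY.appLE Sj T e).hom]
  obtain ⟨s, hs⟩ := (hft : Algebra.FiniteType Γ(S, Sj) Γ(Y, T)).out
  refine ⟨s.image T.topIso.inv, ?_⟩
  let φ : Γ(Y, T) ≃+* Γ(T.toScheme, ⊤) := T.topIso.symm.commRingCatIsoToRingEquiv
  have h1 : Subring.closure (Set.range (pY.appLE Sj T e) ∪ (s : Set Γ(Y, T))) = ⊤ := by
    rw [← Algebra.top_toSubring (R := Γ(S, Sj)) (A := Γ(Y, T)), ← hs, Algebra.adjoin_eq_ring_closure]
    rfl
  have h2 := congrArg (Subring.map φ.toRingHom) h1
  rw [RingHom.map_closure, ← RingHom.range_eq_map] at h2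
  replace h2 := h2.trans (RingHom.range_eq_top.mpr φ.surjective)
  rw [← h2, Set.image_union, Finset.coe_image]
  congr 2
  ext z
  constructor
  · rintro ⟨w, rfl⟩
    exact ⟨_, ⟨Sj.topIso.hom w, rfl⟩, (congr($(Scheme.Hom.resLE_app_top pY e) w)).symm⟩
  · rintro ⟨_, ⟨w, rfl⟩, rfl⟩
    refine ⟨Sj.topIso.inv w, (congr($(Scheme.Hom.resLE_app_top pY e) (Sj.topIso.inv w))).trans ?_⟩
    simp only [CommRingCat.comp_apply]
    erw [← CommRingCat.comp_apply Sj.topIso.inv Sj.topIso.hom, Iso.inv_hom_id]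
    rfl

/-- The ideals on the arc: the centre becomes the ideal of denominators. -/
theorem exceptional_eq_near {Xt : Scheme.{u}} (q : Xt ⟶ X) (D E : X.IdealSheafData) (O : Xt.affineOpens)
    {e : Γ(Xt, O.1)} (hO : (E.comap q).ideal O = Ideal.span {e}) (hDE : D ≤ E)
    {A K : Type u} [CommRing A] [IsDomain A] [IsLocalRing A] [Field K] [Algebra A K]
    [IsFractionRing A K] (φ : Spec (.of A) ⟶ Xt) (hy : φ (closedPoint A) ∈ O.1)
    (hgen : ∀ k : Spec (.of K), q (φ (Spec.map (CommRingCat.ofHom (algebraMap A K)) k)) ∉ E.support)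
    (hle : E.comap (φ ≫ q) ≤ D.comap (φ ≫ q)) :
    ∃ O' : Xt.affineOpens, φ (closedPoint A) ∈ O'.1 ∧ ∃ h : O'.1 ≤ O.1,
      (D.comap q).ideal O' = Ideal.span {res h e} := by
  have hrange := BlowUp6.range_subset_of_closedPoint_mem φ O.1.2 hy
  have eT : (⊤ : (Spec (.of A)).Opens) ≤ φ ⁻¹ᵁ O.1 := fun t _ => hrange ⟨t, rfl⟩
  let F := φ.appLE O.1 ⊤ eT
  have hDle : (D.comap q).ideal O ≤ Ideal.span {e} := by
    rw [← hO]; exact Scheme.IdealSheafData.comap_mono (f := q) hDE O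
  by_cases hu : ∃ u, e * u ∈ (D.comap q).ideal O ∧ φ (closedPoint A) ∈ Xt.basicOpen u
  · obtain ⟨u, hu, hyu⟩ := hu
    refine ⟨Xt.affineBasicOpen u, hyu, Xt.basicOpen_le u, ?_⟩
    rw [← (D.comap q).map_ideal_basicOpen O u]
    refine le_antisymm ?_ ?_
    · refine (Ideal.map_mono hDle).trans (le_of_eq ?_)
      rw [Ideal.map_span, Set.image_singleton]
      rfl
    · rw [Ideal.span_singleton_le_iff_mem]
      obtain ⟨v, hv⟩ : IsUnit (res (Xt.basicOpen_le u) u) := Xt.toRingedSpace.isUnit_res_basicOpen u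
      have h1 := Ideal.mem_map_of_mem (res (Xt.basicOpen_le u)) hu
      rw [map_mul, ← hv] at h1
      have h2 := Ideal.mul_mem_right (↑v⁻¹) _ h1
      rwa [mul_assoc, Units.mul_inv, mul_one] at h2
  · exfalso
    push Not at hu
    let r := (Scheme.ΓSpecIso (CommRingCat.of A)).hom.hom
    have hunit : ∀ μ : Γ(Spec (.of A), ⊤), closedPoint A ∈ (Spec (.of A)).basicOpen μ ↔ IsUnit (r μ) := by
      intro μ
      rw [show μ = (Scheme.ΓSpecIso (CommRingCat.of A)).inv (r μ) from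
        congr($((Scheme.ΓSpecIso (CommRingCat.of A)).hom_inv_id.symm) μ), basicOpen_eq_of_affine]
      have : r ((Scheme.ΓSpecIso (CommRingCat.of A)).inv (r μ)) = r μ :=
        congr($((Scheme.ΓSpecIso (CommRingCat.of A)).inv_hom_id) (r μ))
      rw [this]
      exact not_not
    let ε := r (F e)
    have hD : ((D.comap q).ideal O).map (r.comp F.hom) ≤ Ideal.span {ε} * maximalIdeal A := by
      rw [Ideal.map_le_iff_le_comap]
      intro d hd
      obtain ⟨u, rfl⟩ := Ideal.mem_span_singleton'.mp (hDle hd)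
      rw [mul_comm u e] at hd ⊢
      rw [Ideal.mem_comap, map_mul]
      refine Ideal.mul_mem_mul (Ideal.mem_span_singleton_self _) ?_
      rw [mem_maximalIdeal, mem_nonunits_iff]
      intro hun
      have := (hunit (F u)).mpr hun
      refine hu u hd ?_
      have h3 : closedPoint A ∈ φ ⁻¹ᵁ Xt.basicOpen u := by
        rw [Scheme.preimage_basicOpen]
        have := Scheme.basicOpen_appLE φ ⊤ O.1 eT u
        rw [show φ.appLE O.1 ⊤ eT u = F u from rfl] at this
        rw [← Scheme.preimage_basicOpen]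
        exact (this.le ‹closedPoint A ∈ (Spec (.of A)).basicOpen (F u)›).2
      exact h3
    have hE : (E.comap (φ ≫ q)).ideal ⟨⊤, isAffineOpen_top _⟩ = Ideal.span {F e} := by
      rw [Scheme.IdealSheafData.comap_comp, BlowUp.ideal_comap_eq_map _ φ O ⟨⊤, isAffineOpen_top _⟩ eT,
        hO, Ideal.map_span, Set.image_singleton]
    have hDV : (D.comap (φ ≫ q)).ideal ⟨⊤, isAffineOpen_top _⟩ = ((D.comap q).ideal O).map F.hom := by
      rw [Scheme.IdealSheafData.comap_comp, BlowUp.ideal_comap_eq_map _ φ O ⟨⊤, isAffineOpen_top _⟩ eT]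
    have hmem : ε ∈ Ideal.span {ε} * maximalIdeal A := by
      refine hD ?_
      rw [← Ideal.map_map, ← hDV]
      exact Ideal.mem_map_of_mem _ (hle _ (hE.ge (Ideal.mem_span_singleton_self _)))
    obtain ⟨μ, hμ, hμε⟩ := Ideal.mem_span_singleton_mul.mp hmem
    have hε : ε = 0 := by
      have h1 : IsUnit (1 - μ) := isUnit_one_sub_self_of_mem_nonunits μ hμ
      refine h1.mul_left_eq_zero.mp ?_
      rw [mul_sub, mul_one, hμε, sub_self]
    obtain ⟨k⟩ : Nonempty (Spec (.of K)) := inferInstance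
    let η := Spec.map (CommRingCat.ofHom (algebraMap A K)) k
    have hηO : φ η ∈ O.1 := hrange ⟨η, rfl⟩
    have hηe : φ η ∈ Xt.basicOpen e := by
      by_contra hne
      refine hgen k ?_
      have hz : φ η ∈ (E.comap q).support :=
        (Scheme.IdealSheafData.mem_support_iff_of_mem (U := O) hηO).mpr (by
          rw [hO, Scheme.zeroLocus_span, Scheme.mem_zeroLocus_iff]
          rintro _ rfl
          exact hne)
      rw [Scheme.IdealSheafData.support_comap] at hz
      exact hz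
    have h4 : η ∈ (Spec (.of A)).basicOpen (F e) := by
      rw [show F e = φ.appLE O.1 ⊤ eT e from rfl, Scheme.basicOpen_appLE]
      exact ⟨trivial, hηe⟩
    have : F e = 0 := by
      have := congrArg (Scheme.ΓSpecIso (CommRingCat.of A)).inv hε
      rw [map_zero] at this
      exact (congr($((Scheme.ΓSpecIso (CommRingCat.of A)).hom_inv_id.symm) (F e))).trans this
    rw [this, Scheme.basicOpen_zero] at h4
    exact h4

/-- The centre of an affine chart `T` of `Y`. -/
theorem exists_center [CompactSpace X] [QuasiSeparatedSpace X] [CompactSpace Y] [QuasiSeparatedSpace Y]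
    [QuasiSeparatedSpace S] [IsSeparated pY] [LocallyOfFiniteType pY] (hf : U.ι ≫ pX = f ≫ pY)
    (hU : IsCompact (U : Set X)) (V : X.Opens) (B : X.IdealSheafData) (hBfg : BlowUp.IsFiniteTypeIdeal B)
    (hB : (B.support : Set X) = (V : Set X)ᶜ)
    (hcl : closure (Set.range (fun x => pullback.lift U.ι f hf x)) ∩
        ((pullback.fst pX pY) ⁻¹ᵁ V : Set ↥(pullback pX pY)) ⊆ Set.range (fun x => pullback.lift U.ι f hf x))
    (Sj : S.affineOpens) (T : Y.affineOpens) (hTS : T.1 ≤ pY ⁻¹ᵁ Sj.1) :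
    ∃ E : X.IdealSheafData, BlowUp.IsFiniteTypeIdeal E ∧ Disjoint (E.support : Set X) (V : Set X) ∧
      ∀ {Xt : Scheme.{u}} (q : Xt ⟶ X), BlowUp.IsEffCartierIdeal (E.comap q) →
        ∀ y, ArcAt pX pY f q T.1 y → ∃ O : Xt.Opens, y ∈ O ∧ Good pX pY q f O := by
  classical
  let U' : X.Opens := U.ι ''ᵁ (f ⁻¹ᵁ T.1)
  have hU'U : U' ≤ U := (U.ι.image_le_opensRange _).trans_eq U.opensRange_ι
  have : QuasiCompact f := by
    have : CompactSpace U.toScheme := isCompact_iff_compactSpace.mp hU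
    have : QuasiCompact (f ≫ terminal.from Y) := inferInstance
    have : QuasiSeparated (terminal.from Y) := quasiSeparated_iff_quasiSeparatedSpace _ |>.mpr ‹_›
    exact QuasiCompact.of_comp f (terminal.from Y)
  have hU'c : IsCompact (U' : Set X) :=
    (f.isCompact_preimage T.2.isCompact).image U.ι.continuous
  have hmemU' : ∀ x : U.toScheme, U.ι x ∈ U' ↔ f x ∈ T.1 := fun x =>
    ⟨fun ⟨z, hz, he⟩ => U.ι.isOpenEmbedding.injective he ▸ hz, fun h => ⟨x, h, rfl⟩⟩
  have hrU' : Set.range (X.homOfLE hU'U ≫ f) ⊆ Set.range T.1.ι := by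
    rintro _ ⟨x, rfl⟩
    rw [Scheme.Opens.range_ι, Scheme.Hom.comp_apply, SetLike.mem_coe, ← hmemU',
      ← Scheme.Hom.comp_apply, Scheme.homOfLE_ι]
    exact x.2
  let h : U'.toScheme ⟶ T.1.toScheme := IsOpenImmersion.lift T.1.ι (X.homOfLE hU'U ≫ f) hrU'
  have hh : h ≫ T.1.ι = X.homOfLE hU'U ≫ f := IsOpenImmersion.lift_fac _ _ _
  let π := pY.resLE Sj.1 T.1 hTS
  obtain ⟨G, hG⟩ := exists_gens pY Sj.2 T.2 hTS
  obtain ⟨D, N, hD, hN, hDs, hNle, hNgen⟩ := exists_numerators U' hU'c fun z : G => sec h z.1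
  -- the closure of the graph over the chart
  let Pi₀ : (pullback pX pY).Opens := pullback.snd pX pY ⁻¹ᵁ T.1
  let Γ₀ := pullback.lift U.ι f hf
  have hr1 : Set.range (X.homOfLE hU'U ≫ Γ₀) ⊆ Set.range Pi₀.ι := by
    rintro _ ⟨x, rfl⟩
    rw [Scheme.Opens.range_ι]
    show pullback.snd pX pY _ ∈ T.1
    rw [← Scheme.Hom.comp_apply, Category.assoc, pullback.lift_snd]
    have := hrU' ⟨x, rfl⟩
    rwa [Scheme.Opens.range_ι] at this
  let g₁ : U'.toScheme ⟶ Pi₀.toScheme := IsOpenImmersion.lift Pi₀.ι (X.homOfLE hU'U ≫ Γ₀) hr1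
  have hg₁ : g₁ ≫ Pi₀.ι = X.homOfLE hU'U ≫ Γ₀ := IsOpenImmersion.lift_fac _ _ _
  have : QuasiCompact pX := by
    have : QuasiCompact (pX ≫ terminal.from S) := inferInstance
    have : QuasiSeparated (terminal.from S) := quasiSeparated_iff_quasiSeparatedSpace _ |>.mpr ‹_›
    exact QuasiCompact.of_comp pX (terminal.from S)
  have : CompactSpace Pi₀.toScheme :=
    isCompact_iff_compactSpace.mp ((pullback.snd pX pY).isCompact_preimage T.2.isCompact)
  have : QuasiSeparatedSpace (pullback pX pY : Scheme.{u}) :=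
    quasiSeparatedSpace_of_quasiSeparated (pullback.fst pX pY)
  have : QuasiCompact g₁ := by
    have : CompactSpace U'.toScheme := isCompact_iff_compactSpace.mp hU'c
    have : QuasiSeparatedSpace Pi₀.toScheme := Pi₀.ι.isOpenEmbedding.quasiSeparatedSpace
    have : QuasiCompact (g₁ ≫ terminal.from Pi₀.toScheme) := inferInstance
    have : QuasiSeparated (terminal.from Pi₀.toScheme) := quasiSeparated_iff_quasiSeparatedSpace _ |>.mpr ‹_›
    exact QuasiCompact.of_comp g₁ (terminal.from Pi₀.toScheme)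
  let ιZ : g₁.ker.subscheme ⟶ Pi₀.toScheme := g₁.ker.subschemeι
  have : CompactSpace g₁.ker.subscheme := QuasiCompact.compactSpace_of_compactSpace ιZ
  let pZ : g₁.ker.subscheme ⟶ X := ιZ ≫ Pi₀.ι ≫ pullback.fst pX pY
  obtain ⟨k, hk⟩ : ∃ k : ℕ, (B.comap pZ) ^ (k + 1) ≤ D.comap pZ := by
    refine FSchSys.exists_pow_le_of_support_subset _ _ (fun t => ?_) ?_
    · obtain ⟨O₁, O₂, h1, h2⟩ := FSchSys.exists_affine_pair pZ t
      refine ⟨O₂, h1, ?_⟩
      rw [BlowUp.ideal_comap_eq_map _ pZ O₁ O₂ h2]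
      exact (hBfg O₁).map _
    · intro t ht
      rw [Scheme.IdealSheafData.support_comap] at ht ⊢
      show pZ t ∈ (B.support : Set X)
      have ht' : pZ t ∈ (D.support : Set X) := ht
      rw [hDs] at ht'
      rw [hB]
      intro htV
      have hclo : ιZ t ∈ closure (Set.range g₁) := by
        rw [← Scheme.Hom.support_ker, ← Scheme.IdealSheafData.range_subschemeι]
        exact ⟨t, rfl⟩
      have hp : Pi₀.ι (ιZ t) ∈ closure (Set.range fun x => Γ₀ x) := by
        refine closure_mono ?_ (image_closure_subset_closure_image Pi₀.ι.continuous ⟨_, hclo, rfl⟩)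
        rintro _ ⟨_, ⟨x, rfl⟩, rfl⟩
        exact ⟨X.homOfLE hU'U x, by show Γ₀ _ = _; rw [← Scheme.Hom.comp_apply, ← Scheme.Hom.comp_apply, hg₁]⟩
      obtain ⟨u, hu⟩ := hcl ⟨hp, htV⟩
      replace hu : Γ₀ u = Pi₀.ι (ιZ t) := hu
      refine ht' ?_
      show pullback.fst pX pY (Pi₀.ι (ιZ t)) ∈ U'
      rw [← hu, ← Scheme.Hom.comp_apply, pullback.lift_fst, hmemU']
      have : pullback.snd pX pY (Pi₀.ι (ιZ t)) ∈ T.1 := (ιZ t).2
      rwa [← hu, ← Scheme.Hom.comp_apply, pullback.lift_snd] at this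
  let E := (D ⊔ ⨆ l, N l) ⊔ B ^ (k + 1)
  refine ⟨E, fun W => ?_, ?_, fun {Xt} q hq y hy => ?_⟩
  · simp only [E, Scheme.IdealSheafData.ideal_sup, Pi.sup_apply, Scheme.IdealSheafData.ideal_iSup,
      iSup_apply, Scheme.IdealSheafData.ideal_pow, Pi.pow_apply]
    exact Submodule.FG.sup (Submodule.FG.sup (hD W) (Submodule.fg_iSup _ fun l => hN l W))
      ((hBfg W).pow (n := k + 1))
  · rw [Set.disjoint_left]
    intro x hx hxV
    have : x ∈ ((B ^ (k + 1)).support : Set X) := by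
      simp only [E, Scheme.IdealSheafData.support_sup] at hx; exact hx.2
    rw [Scheme.IdealSheafData.support_pow _ _ (Nat.succ_ne_zero k), hB] at this
    exact this hxV
  obtain ⟨A, _, _, _, K, _, _, _, a, φ, φY, hS, hgX, hgY, hy, hyT⟩ := hy
  let j := Spec.map (CommRingCat.ofHom (algebraMap A K))
  have hrY := BlowUp6.range_subset_of_closedPoint_mem φY T.1.2 hyT
  have ha' : Set.range (a ≫ U.ι) ⊆ Set.range U'.ι := by
    rintro _ ⟨x, rfl⟩
    rw [Scheme.Opens.range_ι, Scheme.Hom.comp_apply, SetLike.mem_coe, hmemU',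
      ← Scheme.Hom.comp_apply, ← hgY]
    exact hrY ⟨j x, rfl⟩
  let a' := IsOpenImmersion.lift U'.ι (a ≫ U.ι) ha'
  have ha'ι : a' ≫ U'.ι = a ≫ U.ι := IsOpenImmersion.lift_fac _ _ _
  have ha'U : a' ≫ X.homOfLE hU'U = a := by
    rw [← cancel_mono U.ι, Category.assoc, Scheme.homOfLE_ι, ha'ι]
  let φT := IsOpenImmersion.lift T.1.ι φY (by rw [Scheme.Opens.range_ι]; exact hrY)
  have hφT : φT ≫ T.1.ι = φY := IsOpenImmersion.lift_fac _ _ _
  -- the ideals on the arc
  have hNarc : ∀ l, (N l).comap (φ ≫ q) ≤ D.comap (φ ≫ q) := fun l =>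
    comap_numer_le (h := h) (φ ≫ q) a' φT (by rw [ha'ι]; exact hgX)
      (by rw [← cancel_mono T.1.ι, Category.assoc, hφT, Category.assoc, hh, ← Category.assoc a', ha'U, hgY])
      l.1 D (N l) (hNle l)
  have hBarc : (B ^ (k + 1)).comap (φ ≫ q) ≤ D.comap (φ ≫ q) := by
    let φP := pullback.lift (φ ≫ q) φY (by rw [Category.assoc, hS])
    have hP : Set.range φP ⊆ Set.range Pi₀.ι := by
      rintro _ ⟨x, rfl⟩
      rw [Scheme.Opens.range_ι]
      show pullback.snd pX pY _ ∈ T.1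
      rw [← Scheme.Hom.comp_apply, pullback.lift_snd]
      exact hrY ⟨x, rfl⟩
    let φPi₀ := IsOpenImmersion.lift Pi₀.ι φP hP
    have hφPi₀ : φPi₀ ≫ Pi₀.ι = φP := IsOpenImmersion.lift_fac _ _ _
    have hgen : j ≫ φPi₀ = a' ≫ g₁ := by
      rw [← cancel_mono Pi₀.ι, Category.assoc, hφPi₀, Category.assoc, hg₁, ← Category.assoc a', ha'U]
      refine pullback.hom_ext ?_ ?_
      · rw [Category.assoc, pullback.lift_fst, Category.assoc, pullback.lift_fst]; exact hgX
      · rw [Category.assoc, pullback.lift_snd, Category.assoc, pullback.lift_snd]; exact hgY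
    let φZ := IsClosedImmersion.lift ιZ φPi₀ (by
      rw [Scheme.IdealSheafData.ker_subschemeι]; exact BlowUp6.ker_le_ker g₁ a' φPi₀ hgen)
    have hφZ : φZ ≫ pZ = φ ≫ q := by
      simp only [pZ, φZ, IsClosedImmersion.lift_fac_assoc]
      rw [← Category.assoc, hφPi₀, pullback.lift_fst]
    have := Scheme.IdealSheafData.comap_mono (f := φZ) hk
    simp only [← FSchSys.comap_pow, ← Scheme.IdealSheafData.comap_comp, hφZ] at this
    exact this
  have hEarc : E.comap (φ ≫ q) ≤ D.comap (φ ≫ q) := by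
    simp only [E, Scheme.IdealSheafData.comap_sup,
      (Scheme.IdealSheafData.map_gc (φ ≫ q)).l_iSup]
    exact sup_le (sup_le le_rfl (iSup_le hNarc)) hBarc
  -- an affine neighbourhood of `y`
  obtain ⟨W, hyW, hW⟩ := hNgen (q y)
  have hyS : pX (q y) ∈ Sj.1 := by
    rw [← hy, ← Scheme.Hom.comp_apply, ← Scheme.Hom.comp_apply, hS,
      Scheme.Hom.comp_apply]
    exact hTS hyT
  obtain ⟨O, hyO, hOle, e, he, heE⟩ := GrothLib.BlowUp.exists_cartierOn_le hq
    (W := q ⁻¹ᵁ W.1 ⊓ (q ≫ pX) ⁻¹ᵁ Sj.1) (x := y)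
    ⟨hyW, by show (q ≫ pX) y ∈ Sj.1; rw [Scheme.Hom.comp_apply]; exact hyS⟩
  obtain ⟨O', hyO', hO'O, hDO⟩ := exceptional_eq_near q D E O heE (le_sup_left.trans le_sup_left) φ
    (hy ▸ hyO) (fun x hx => by
      have hU'x : q (φ (j x)) ∈ U' := by
        rw [← Scheme.Hom.comp_apply, ← Scheme.Hom.comp_apply, hgX,
          ← ha'ι, Scheme.Hom.comp_apply]
        exact (a' x).2
      have hxE : q (φ (j x)) ∈ (D.support : Set X) := by
        simp only [E, Scheme.IdealSheafData.support_sup] at hx; exact hx.1.1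
      rw [hDs] at hxE
      exact hxE hU'x) hEarc
  let e' := res hO'O e
  have he' : e' ∈ nonZeroDivisors Γ(Xt, O'.1) :=
    GrothLib.BlowUp.mem_nonZeroDivisors_of_flat _ (GrothLib.BlowUp.flat_res hO'O) he
  have hEO' : (E.comap q).ideal O' = Ideal.span {e'} := by
    rw [← (E.comap q).map_ideal (U := O') (V := O) hO'O, heE, Ideal.map_span, Set.image_singleton]
    rfl
  have hO'W : O'.1 ≤ q ⁻¹ᵁ W.1 := (hO'O.trans hOle).trans inf_le_left
  have hO'S : O'.1 ≤ (q ≫ pX) ⁻¹ᵁ Sj.1 := (hO'O.trans hOle).trans inf_le_right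
  have : IsAffine T.1.toScheme := T.2
  have : IsAffine Sj.1.toScheme := Sj.2
  let ρ := (q ≫ pX).resLE Sj.1 O'.1 hO'S
  obtain ⟨g₀, hg₀π, hg₀⟩ := exists_extension q h π (G : Set Γ(T.1.toScheme, ⊤)) hG D hDs O' ρ
    (fun V hV eV => by
      rw [← cancel_mono Sj.1.ι]
      simp only [ρ, π, Category.assoc, Scheme.Hom.resLE_comp_ι, Scheme.homOfLE_ι_assoc,
        reassoc_of% hh, ← hf, Scheme.Hom.resLE_comp_ι_assoc])
    W hO'W he' hDO (fun z hz => by
      obtain ⟨Gd, hGd, hnum⟩ := hW ⟨z, hz⟩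
      refine ⟨Gd, hGd, fun d hd => ?_⟩
      obtain ⟨n, hn, hnr⟩ := hnum d hd
      refine ⟨n, hEO'.le ?_, hnr⟩
      rw [BlowUp.ideal_comap_eq_map _ q W O' hO'W]
      refine Ideal.mem_map_of_mem _ (?_ : n ∈ E.ideal W)
      have hle : N ⟨z, hz⟩ ≤ E := ((le_iSup N ⟨z, hz⟩).trans le_sup_right).trans le_sup_left
      exact hle W hn)
  refine ⟨O'.1, hy ▸ hyO', g₀ ≫ T.1.ι, (E.comap q).comap O'.1.ι, ?_, ?_,
    GrothLib.BlowUp.isEffCartierIdeal_comap_of_flat _ hq, ?_⟩
  · rw [Category.assoc, ← Scheme.Hom.resLE_comp_ι pY hTS, reassoc_of% hg₀π]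
    exact Scheme.Hom.resLE_comp_ι _ _
  · let P := O'.1 ⊓ q ⁻¹ᵁ U
    refine eq_of_eq_off_cartier pY ?_
      (GrothLib.BlowUp.isEffCartierIdeal_comap_of_flat P.ι hq) ?_
    · simp only [Category.assoc]
      rw [← Scheme.Hom.resLE_comp_ι pY hTS, reassoc_of% hg₀π, ← hf, Scheme.Hom.resLE_comp_ι_assoc,
        show ρ ≫ Sj.1.ι = O'.1.ι ≫ q ≫ pX from Scheme.Hom.resLE_comp_ι _ _, Scheme.homOfLE_ι_assoc]
    · let V' : P.toScheme.Opens := ((E.comap q).comap P.ι).support.compl
      show V'.ι ≫ _ = V'.ι ≫ _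
      let V₁ : Xt.Opens := P ⊓ q ⁻¹ᵁ U'
      have hr : Set.range (V'.ι ≫ P.ι) ⊆ Set.range V₁.ι := by
        rintro _ ⟨x, rfl⟩
        rw [Scheme.Opens.range_ι]
        refine ⟨(V'.ι x).2, ?_⟩
        by_contra hxU
        refine x.2 ?_
        show V'.ι x ∈ (((E.comap q).comap P.ι).support : Set P.toScheme)
        rw [Scheme.IdealSheafData.support_comap]
        show P.ι (V'.ι x) ∈ ((E.comap q).support : Set Xt)
        have hxP : P.ι (V'.ι x) ∈ O'.1 := (V'.ι x).2.1
        rw [SetLike.mem_coe, Scheme.IdealSheafData.mem_support_iff_of_mem (U := O') hxP, hEO',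
          ← hDO, ← Scheme.IdealSheafData.mem_support_iff_of_mem (U := O') hxP,
          Scheme.IdealSheafData.support_comap]
        show q _ ∈ (D.support : Set X)
        rw [hDs]
        exact hxU
      let l := IsOpenImmersion.lift V₁.ι _ hr
      have hl : l ≫ Xt.homOfLE inf_le_left = V'.ι := by
        rw [← cancel_mono P.ι, Category.assoc, Scheme.homOfLE_ι, IsOpenImmersion.lift_fac]
      have hVO : V₁ ≤ O'.1 := inf_le_left.trans inf_le_left
      rw [← hl, Category.assoc, Category.assoc]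
      congr 1
      rw [← Category.assoc (Xt.homOfLE _), Scheme.homOfLE_homOfLE, ← Category.assoc,
        hg₀ V₁ hVO inf_le_right, Category.assoc, hh, ← Category.assoc, ← Category.assoc]
      congr 1
      rw [← cancel_mono U.ι]
      simp
      exact (Scheme.homOfLE_ι_assoc _ _ _).symm
  · intro x hx
    show q (O'.1.ι x) ∈ U
    refine hU'U ?_
    by_contra hxU
    refine hx ?_
    show x ∈ (((E.comap q).comap O'.1.ι).support : Set O'.1.toScheme)
    rw [Scheme.IdealSheafData.support_comap]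
    show O'.1.ι x ∈ ((E.comap q).support : Set Xt)
    rw [SetLike.mem_coe, Scheme.IdealSheafData.mem_support_iff_of_mem (U := O') (show O'.1.ι x ∈ O'.1 from x.2), hEO',
      ← hDO, ← Scheme.IdealSheafData.mem_support_iff_of_mem (U := O') (show O'.1.ι x ∈ O'.1 from x.2),
      Scheme.IdealSheafData.support_comap]
    show q _ ∈ (D.support : Set X)
    rw [hDs]
    exact hxU

end GrothLib.QuasiDom6
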