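import Groth.Agent.Lib.QuasiDom6.Numerators
import Groth.Agent.Lib.BlowUp.Universal
import Groth.Agent.Lib.BlowUp6.Boundary
import Mathlib.AlgebraicGeometry.Morphisms.SchemeTheoreticallyDominant

/-!
# Extending morphisms over the open where the denominators generate the exceptional ideal
-/

universe u

open CategoryTheory Limits AlgebraicGeometry Opposite TopologicalSpace IsLocalRing

namespace GrothLib.QuasiDom6

open GrothLib.Thickening (res res_res res_self)

theorem id_appLE {P : Scheme.{u}} {U V : P.Opens} (e : V ≤ (𝟙 P) ⁻¹ᵁ U) :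
    (𝟙 P : P ⟶ P).appLE U V e = P.presheaf.map (homOfLE (show V ≤ U from e)).op := by
  simp [Scheme.Hom.appLE]; rfl

/-- The complement of an effective Cartier divisor is scheme-theoretically dense. -/
theorem isSchemeTheoreticallyDominant_compl_support {P : Scheme.{u}} {I : P.IdealSheafData}
    (hI : BlowUp.IsEffCartierIdeal I) : IsSchemeTheoreticallyDominant (Scheme.Opens.ι I.support.compl) := by
  choose U hxU e he hU using hI
  refine ⟨le_bot_iff.mp (Scheme.IdealSheafData.le_of_iSup_eq_top U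
    (top_unique fun x _ => Opens.mem_iSup.mpr ⟨x, hxU x⟩) fun x s hs => ?_)⟩
  have hs' : (Scheme.Opens.ι I.support.compl).app (U x).1 s = 0 :=
    RingHom.mem_ker.mp (Scheme.IdealSheafData.ideal_ofIdeals_le _ _ hs)
  rw [Scheme.IdealSheafData.ideal_bot, Pi.bot_apply, Ideal.mem_bot]
  apply BlowUp.injective_res_basicOpen (he x)
  rw [map_zero]
  have hle : P.basicOpen (e x) ≤ I.support.compl := fun y hy =>
    Set.disjoint_left.mp (BlowUp.disjoint_basicOpen_support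
      ((hU x).ge (Ideal.mem_span_singleton_self _))) hy
  have h1 : P.basicOpen (e x) ≤ (Scheme.Opens.ι I.support.compl) ''ᵁ ((Scheme.Opens.ι I.support.compl) ⁻¹ᵁ (U x).1) := by
    rw [Scheme.Hom.image_preimage_eq_opensRange_inf, Scheme.Opens.opensRange_ι]
    exact le_inf hle (P.basicOpen_le _)
  have h2 := congrArg (P.presheaf.map (homOfLE h1).op).hom
    ((congrArg ((Scheme.Opens.ι I.support.compl).appIso ((Scheme.Opens.ι I.support.compl) ⁻¹ᵁ (U x).1)).hom hs').trans (map_zero _))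
  replace h2 := h2.trans (map_zero _)
  refine Eq.trans ?_ h2
  rw [Scheme.Opens.ι_appIso, Scheme.Opens.ι_app, Iso.refl_hom]
  exact (res_res _ _ _).symm

/-- Morphisms to a separated scheme over the base agreeing off an effective Cartier divisor agree. -/
theorem eq_of_eq_off_cartier {P Y S : Scheme.{u}} (pY : Y ⟶ S) [IsSeparated pY] {a b : P ⟶ Y}
    (hab : a ≫ pY = b ≫ pY) {I : P.IdealSheafData} (hI : BlowUp.IsEffCartierIdeal I)
    (h : (Scheme.Opens.ι I.support.compl) ≫ a = (Scheme.Opens.ι I.support.compl) ≫ b) : a = b := by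
  have := isSchemeTheoreticallyDominant_compl_support hI
  let Δ := pullback.diagonal pY
  let ab := pullback.lift a b hab
  let ι := pullback.fst ab Δ
  let k : Scheme.Opens.toScheme (X := P) I.support.compl ⟶ pullback ab Δ :=
    pullback.lift (Scheme.Opens.ι I.support.compl) ((Scheme.Opens.ι I.support.compl) ≫ a) (by
      refine pullback.hom_ext ?_ ?_
      · simp [ab, Δ]
        erw [pullback.lift_fst]
      · simp [ab, Δ]
        erw [pullback.lift_snd]
        rw [h])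
  have hι : ι.ker = ⊥ := by
    refine le_bot_iff.mp ((Scheme.Hom.le_ker_comp k ι).trans ?_)
    rw [pullback.lift_fst, Scheme.Hom.ker_eq_bot]
  have : IsIso ι := IsClosedImmersion.isIso_iff_ker_eq_bot.mpr hι
  have h1 : pullback.fst ab Δ ≫ a = pullback.fst ab Δ ≫ b := by
    have := pullback.condition (f := ab) (g := Δ)
    have e1 := congr($this ≫ pullback.fst pY pY)
    have e2 := congr($this ≫ pullback.snd pY pY)
    simp only [Category.assoc, ab, Δ, pullback.lift_fst, pullback.lift_snd,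
      pullback.diagonal_fst, pullback.diagonal_snd, Category.comp_id] at e1 e2
    exact e1.trans e2.symm
  exact (cancel_epi ι).mp h1

variable {X Xt Z S' : Scheme.{u}} (q : Xt ⟶ X) {U' : X.Opens} (h : U'.toScheme ⟶ Z)

/-- The section of `X` on `U'` given by a function on `Z`. -/
noncomputable def sec (z : Γ(Z, ⊤)) : Γ(X, U') := U'.topIso.hom (h.appTop z)

theorem appTop_resLE {V : Xt.Opens} (e : V ≤ q ⁻¹ᵁ U') (z : Γ(Z, ⊤)) :
    (q.resLE U' V e ≫ h).appTop z = V.topIso.inv (q.appLE U' V e (sec h z)) := by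
  rw [Scheme.Hom.comp_appTop, CommRingCat.comp_apply]
  show (q.resLE U' V e).app ⊤ _ = _
  rw [Scheme.Hom.resLE_app_top]
  rfl

theorem res_appLE {W V : X.Opens} {O P : Xt.Opens} (hVW : V ≤ W) (hPO : P ≤ O) (eO : O ≤ q ⁻¹ᵁ W)
    (eP : P ≤ q ⁻¹ᵁ V) (x : Γ(X, W)) :
    res hPO (q.appLE W O eO x) = q.appLE V P eP (res hVW x) := by
  change (q.appLE W O eO ≫ Xt.presheaf.map _) x = (X.presheaf.map _ ≫ q.appLE V P eP) x
  rw [Scheme.Hom.appLE_map, Scheme.Hom.map_appLE]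

/-- On an affine open where the denominators generate the exceptional ideal, `h` extends. -/
theorem exists_extension [IsAffine Z] [IsAffine S'] (π : Z ⟶ S') (G : Set Γ(Z, ⊤))
    (hG : Subring.closure (Set.range π.appTop ∪ G) = ⊤)
    (D : X.IdealSheafData) (hD : (D.support : Set X) = (U' : Set X)ᶜ)
    (O : Xt.affineOpens) (ρ : O.1.toScheme ⟶ S')
    (hρ : ∀ (V : Xt.Opens) (hV : V ≤ O.1) (e : V ≤ q ⁻¹ᵁ U'),
      Xt.homOfLE hV ≫ ρ = q.resLE U' V e ≫ h ≫ π)
    (W : X.affineOpens) (hOW : O.1 ≤ q ⁻¹ᵁ W.1) {e : Γ(Xt, O.1)} (he : e ∈ nonZeroDivisors Γ(Xt, O.1))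
    (hDO : (D.comap q).ideal O = Ideal.span {e})
    (hA : ∀ z ∈ G, ∃ (Gd : Finset Γ(X, W.1)), Ideal.span (Gd : Set Γ(X, W.1)) = D.ideal W ∧
      ∀ d ∈ Gd, ∃ a : Γ(X, W.1), q.appLE W.1 O.1 hOW a ∈ Ideal.span {e} ∧
        res (inf_le_left (b := U')) a = res (inf_le_right (a := W.1)) (sec h z) * res inf_le_left d) :
    ∃ g : O.1.toScheme ⟶ Z, g ≫ π = ρ ∧
      ∀ (V : Xt.Opens) (hV : V ≤ O.1) (eV : V ≤ q ⁻¹ᵁ U'),
        Xt.homOfLE hV ≫ g = q.resLE U' V eV ≫ h := by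
  classical
  let V₀ := Xt.basicOpen e
  have hsupp : ∀ y ∈ O.1, q y ∈ U' ↔ y ∈ V₀ := by
    intro y hy
    have h1 : q y ∈ U' ↔ y ∉ (D.comap q).support := by
      rw [Scheme.IdealSheafData.support_comap]
      show _ ↔ q y ∉ (D.support : Set X)
      rw [hD]; exact not_not.symm
    rw [h1, Scheme.IdealSheafData.mem_support_iff_of_mem (U := O) hy, hDO, Scheme.zeroLocus_span,
      Scheme.mem_zeroLocus_iff]
    simp only [Set.mem_singleton_iff, forall_eq, not_not]
    rfl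
  have hV₀O : V₀ ≤ O.1 := Xt.basicOpen_le e
  have hV₀ : V₀ ≤ q ⁻¹ᵁ U' := fun y hy => (hsupp y (hV₀O hy)).mpr hy
  let r : Γ(Xt, O.1) →+* Γ(Xt, V₀) := res hV₀O
  have hrinj : Function.Injective r := BlowUp.injective_res_basicOpen he
  let θ : Γ(Z, ⊤) →+* Γ(Xt, V₀) :=
    (q.appLE U' V₀ hV₀).hom.comp (U'.topIso.hom.hom.comp h.appTop.hom)
  have hρ₀ : ∀ s, θ (π.appTop s) = r (O.1.topIso.hom (ρ.appTop s)) := by
    intro s
    have h1 := congr($(congrArg Scheme.Hom.appTop (hρ V₀ hV₀O hV₀)) s)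
    rw [← Category.assoc, Scheme.Hom.comp_appTop (q.resLE U' V₀ hV₀ ≫ h), CommRingCat.comp_apply,
      appTop_resLE q h hV₀] at h1
    have h2 : (Xt.homOfLE hV₀O ≫ ρ).appTop s = V₀.topIso.inv (r (O.1.topIso.hom (ρ.appTop s))) := by
      rw [Scheme.Hom.comp_appTop, CommRingCat.comp_apply]
      show (Xt.homOfLE hV₀O).app ⊤ _ = _
      rw [← Scheme.Hom.resLE_id hV₀O, Scheme.Hom.resLE_app_top, id_appLE]
      rfl
    exact ((ConcreteCategory.bijective_of_isIso V₀.topIso.inv).1 (h2.symm.trans h1)).symm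
  have hrange : ∀ z, ∃ s, r s = θ z := by
    intro z
    suffices htop : (⊤ : Subring Γ(Z, ⊤)) ≤ r.range.comap θ from htop (Subring.mem_top z)
    rw [← hG, Subring.closure_le]
    rintro z (⟨s, rfl⟩ | hz)
    · exact ⟨_, (hρ₀ s).symm⟩
    · obtain ⟨Gd, hGd, ha⟩ := hA z hz
      choose a hae hares using ha
      -- express `e` through the generators
      have he' : e ∈ Ideal.span ((q.appLE W.1 O.1 hOW).hom '' (Gd : Set Γ(X, W.1))) := by
        rw [← Ideal.map_span, hGd, ← BlowUp.ideal_comap_eq_map _ q W O hOW, hDO]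
        exact Ideal.mem_span_singleton_self e
      obtain ⟨c, hc⟩ := (Submodule.mem_span_finset (s := Gd.image (q.appLE W.1 O.1 hOW).hom)).mp
        (by rw [Finset.coe_image]; exact he')
      obtain ⟨c', hc'⟩ : ∃ c' : Γ(X, W.1) → Γ(Xt, O.1),
          ∑ d ∈ Gd, c' d * q.appLE W.1 O.1 hOW d = e := by
        have : e ∈ Submodule.span Γ(Xt, O.1) (Set.range fun d : Gd => q.appLE W.1 O.1 hOW d.1) := by
          rwa [show (Set.range fun d : Gd => q.appLE W.1 O.1 hOW d.1) =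
            (q.appLE W.1 O.1 hOW).hom '' (Gd : Set Γ(X, W.1)) by ext; simp]
        obtain ⟨c', hc'⟩ := (Submodule.mem_span_range_iff_exists_fun _).mp this
        refine ⟨fun d => if hd : d ∈ Gd then c' ⟨d, hd⟩ else 0, ?_⟩
        rw [← hc', ← Finset.sum_attach Gd]
        refine Finset.sum_congr rfl fun d _ => ?_
        simp
      have hsum : (∑ d ∈ Gd.attach, c' d.1 * q.appLE W.1 O.1 hOW (a d.1 d.2)) ∈ Ideal.span {e} :=
        sum_mem fun d _ => Ideal.mul_mem_left _ _ (hae d.1 d.2)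
      obtain ⟨s, hs⟩ := Ideal.mem_span_singleton'.mp hsum
      refine ⟨s, ?_⟩
      have hu : IsUnit (r e) := Xt.toRingedSpace.isUnit_res_basicOpen e
      refine hu.mul_right_cancel ?_
      rw [← map_mul, hs, map_sum]
      conv_rhs => rw [← hc', ← Finset.sum_attach Gd, map_sum, Finset.mul_sum]
      refine Finset.sum_congr rfl fun d _ => ?_
      have hVW : V₀ ≤ q ⁻¹ᵁ (W.1 ⊓ U') := le_inf (hV₀O.trans hOW) hV₀
      rw [map_mul, map_mul, mul_left_comm]
      congr 1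
      show res hV₀O _ = q.appLE U' V₀ hV₀ (sec h z) * res hV₀O _
      rw [res_appLE q inf_le_left hV₀O hOW hVW, hares d.1 d.2,
        res_appLE q inf_le_left hV₀O hOW hVW, map_mul]
      congr 1
      change (X.presheaf.map _ ≫ q.appLE (W.1 ⊓ U') V₀ hVW) (sec h z) = _
      rw [Scheme.Hom.map_appLE]
  choose ψ₀ hψ₀ using hrange
  let ψ : Γ(Z, ⊤) →+* Γ(Xt, O.1) :=
    { toFun := ψ₀
      map_zero' := hrinj (by simp [hψ₀])
      map_one' := hrinj (by simp [hψ₀])
      map_add' := fun x y => hrinj (by simp [hψ₀])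
      map_mul' := fun x y => hrinj (by simp [hψ₀]) }
  have hOaff : IsAffine O.1.toScheme := O.2
  let g : O.1.toScheme ⟶ Z := O.1.toScheme.toSpecΓ ≫
    Spec.map (CommRingCat.ofHom ψ ≫ O.1.topIso.inv) ≫ Z.isoSpec.inv
  have hg : g.appTop = CommRingCat.ofHom ψ ≫ O.1.topIso.inv := by
    have hinv : Z.isoSpec.inv.appTop ≫ Z.isoSpec.hom.appTop = 𝟙 _ := by
      rw [← Scheme.Hom.comp_appTop, Iso.hom_inv_id, Scheme.Hom.id_appTop]
    have hz : Z.isoSpec.inv.appTop = (Scheme.ΓSpecIso Γ(Z, ⊤)).inv := by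
      rw [Scheme.isoSpec_hom, Scheme.toSpecΓ_appTop] at hinv
      exact (Iso.comp_hom_eq_id _).mp hinv
    simp only [g, Scheme.Hom.comp_appTop, hz, Category.assoc, Scheme.toSpecΓ_appTop]
    rw [← Category.assoc (Scheme.ΓSpecIso Γ(Z, ⊤)).inv, ← Scheme.ΓSpecIso_inv_naturality]
    simp
  refine ⟨g, ?_, fun V hV eV => ?_⟩
  · refine ext_of_isAffine (CommRingCat.hom_ext (RingHom.ext fun s => ?_))
    rw [Scheme.Hom.comp_appTop, hg]
    show O.1.topIso.inv (ψ₀ (π.appTop s)) = ρ.appTop s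
    have : ψ₀ (π.appTop s) = O.1.topIso.hom (ρ.appTop s) := hrinj ((hψ₀ _).trans (hρ₀ s))
    rw [this, ← CommRingCat.comp_apply, Iso.hom_inv_id]
    rfl
  · refine ext_of_isAffine (CommRingCat.hom_ext (RingHom.ext fun z => ?_))
    rw [appTop_resLE q h eV]
    rw [Scheme.Hom.comp_appTop, hg]
    show (Xt.homOfLE hV).app ⊤ (O.1.topIso.inv (ψ₀ z)) = _
    rw [← Scheme.Hom.resLE_id hV, Scheme.Hom.resLE_app_top, id_appLE]
    simp only [CommRingCat.comp_apply]
    refine congrArg V.topIso.inv ?_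
    erw [← CommRingCat.comp_apply O.1.topIso.inv O.1.topIso.hom, Iso.inv_hom_id]
    have hVV₀ : V ≤ V₀ := fun y hy => (hsupp y (hV hy)).mp (eV hy)
    show res hV (ψ₀ z) = _
    rw [← res_res hV₀O hVV₀]
    show res hVV₀ (r (ψ₀ z)) = _
    rw [hψ₀ z]
    show (q.appLE U' V₀ hV₀ ≫ Xt.presheaf.map _) (sec h z) = _
    rw [Scheme.Hom.appLE_map]

/-- On an arc whose generic point lies in `U'`, with `sec h z` integral, numerators lie in the
denominators. -/
theorem comap_numer_le {A K : Type u} [CommRing A] [IsDomain A] [IsLocalRing A] [Field K] [Algebra A K]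
    [IsFractionRing A K] (φ : Spec (.of A) ⟶ X) (a : Spec (.of K) ⟶ U'.toScheme)
    (φZ : Spec (.of A) ⟶ Z)
    (hφ : Spec.map (CommRingCat.ofHom (algebraMap A K)) ≫ φ = a ≫ U'.ι)
    (hφZ : Spec.map (CommRingCat.ofHom (algebraMap A K)) ≫ φZ = a ≫ h) (z : Γ(Z, ⊤))
    (D N : X.IdealSheafData) (hN : ∀ W : X.affineOpens, N.ideal W ≤ numerIdeal U' (sec h z) D W) :
    N.comap φ ≤ D.comap φ := by
  obtain ⟨_, ⟨W, hW, rfl⟩, hxW, -⟩ := X.isBasis_affineOpens.exists_subset_of_mem_open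
    (Set.mem_univ (φ (closedPoint A))) isOpen_univ
  have hrange := BlowUp6.range_subset_of_closedPoint_mem φ W.2 hxW
  have e : (⊤ : (Spec (.of A)).Opens) ≤ φ ⁻¹ᵁ W := fun t _ => hrange ⟨t, rfl⟩
  refine Scheme.IdealSheafData.le_of_iSup_eq_top
    (fun _ : PUnit.{1} => ⟨⊤, isAffineOpen_top (Spec (.of A))⟩) (by simp) fun _ => ?_
  rw [GrothLib.BlowUp.ideal_comap_eq_map _ φ ⟨W, hW⟩ ⟨⊤, isAffineOpen_top _⟩ e,
    GrothLib.BlowUp.ideal_comap_eq_map _ φ ⟨W, hW⟩ ⟨⊤, isAffineOpen_top _⟩ e,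
    Ideal.map_le_iff_le_comap]
  intro x hx
  obtain ⟨d, hd, hxd⟩ := hN ⟨W, hW⟩ hx
  let j := Spec.map (CommRingCat.ofHom (algebraMap A K))
  have hj : Function.Injective j.appTop := by
    intro r r' hr
    have hn := Scheme.ΓSpecIso_naturality (CommRingCat.ofHom (algebraMap A K))
    apply (ConcreteCategory.bijective_of_isIso (Scheme.ΓSpecIso (CommRingCat.of A)).hom).1
    exact IsFractionRing.injective A K ((congr($hn r)).symm.trans
      ((congrArg (Scheme.ΓSpecIso (CommRingCat.of K)).hom hr).trans congr($hn r')))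
  have key : φ.appLE W ⊤ e x = φZ.appTop z * φ.appLE W ⊤ e d := by
    apply hj
    have eU : (⊤ : (Spec (.of K)).Opens) ≤ (j ≫ φ) ⁻¹ᵁ (W ⊓ U') := fun k _ =>
      ⟨hrange ⟨j k, (Scheme.Hom.comp_apply _ _ _).symm⟩, by
        show (j ≫ φ) k ∈ U'
        rw [hφ, Scheme.Hom.comp_apply]; exact (a k).2⟩
    have hjx : ∀ w : Γ(X, W), j.appTop (φ.appLE W ⊤ e w) =
        (j ≫ φ).appLE (W ⊓ U') ⊤ eU (res inf_le_left w) := by
      intro w
      change (φ.appLE W ⊤ e ≫ j.app ⊤) w = (X.presheaf.map _ ≫ (j ≫ φ).appLE (W ⊓ U') ⊤ eU) w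
      rw [Scheme.Hom.map_appLE, j.app_eq_appLE, Scheme.Hom.appLE_comp_appLE]
      rfl
    rw [map_mul, hjx, hjx, hxd, map_mul]
    congr 1
    change (X.presheaf.map _ ≫ (j ≫ φ).appLE (W ⊓ U') ⊤ eU) (sec h z) = (φZ.appTop ≫ j.appTop) z
    rw [Scheme.Hom.map_appLE, ← Scheme.Hom.comp_appTop]
    have hz : (j ≫ φZ).appTop z = a.appTop (h.appTop z) := by
      rw [show j ≫ φZ = a ≫ h from hφZ, Scheme.Hom.comp_appTop]; rfl
    rw [hz]
    have : ∀ (ψ : Spec (.of K) ⟶ X) (hψ : ψ = a ≫ U'.ι) (e' : ⊤ ≤ ψ ⁻¹ᵁ U'),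
        ψ.appLE U' ⊤ e' (sec h z) = a.appTop (h.appTop z) := by
      rintro ψ rfl e'
      rw [← Scheme.Hom.appLE_comp_appLE a U'.ι U' ⊤ ⊤ (by simp) (by simp), CommRingCat.comp_apply]
      show a.appLE ⊤ ⊤ _ (U'.ι.appLE U' ⊤ _ (sec h z)) = a.app ⊤ _
      rw [a.app_eq_appLE]
      congr 1
      show (U'.topIso.hom ≫ U'.ι.appLE U' ⊤ _) (h.appTop z) = h.appTop z
      rw [Scheme.Opens.topIso_hom, Scheme.Opens.ι_appLE]
      erw [← X.presheaf.map_comp]
      exact congr($(X.presheaf.map_id _) _)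
    exact this _ hφ _
  show φ.appLE W ⊤ e x ∈ (D.ideal ⟨W, hW⟩).map (φ.appLE W ⊤ e).hom
  rw [key]
  exact Ideal.mul_mem_left _ _ (Ideal.mem_map_of_mem _ hd)

end GrothLib.QuasiDom6
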