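import Groth.Agent.Lib.QuasiDom6.Extend

/-!
# Opens to which a morphism extends, and their union
-/

universe u

open CategoryTheory Limits AlgebraicGeometry TopologicalSpace

namespace GrothLib.QuasiDom6

variable {S X Y Xt : Scheme.{u}} (pX : X ⟶ S) (pY : Y ⟶ S) (q : Xt ⟶ X) {U : X.Opens}
  (f : U.toScheme ⟶ Y)

/-- `f` extends over `O`, which has the preimage of `U` as the complement of an effective Cartier
divisor up to shrinking. -/
def Good (O : Xt.Opens) : Prop :=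
  ∃ (g : O.toScheme ⟶ Y) (I : O.toScheme.IdealSheafData), g ≫ pY = O.ι ≫ q ≫ pX ∧
    Xt.homOfLE (inf_le_left : O ⊓ q ⁻¹ᵁ U ≤ O) ≫ g =
      q.resLE U (O ⊓ q ⁻¹ᵁ U) inf_le_right ≫ f ∧
    BlowUp.IsEffCartierIdeal I ∧ ∀ x : O.toScheme, x ∉ I.support → O.ι x ∈ q ⁻¹ᵁ U

theorem good_preimage (hf : U.ι ≫ pX = f ≫ pY) : Good pX pY q f (q ⁻¹ᵁ U) := by
  refine ⟨(q ∣_ U) ≫ f, ⊤, ?_, ?_, GrothLib.BlowUp.isEffCartierIdeal_top, fun x _ => x.2⟩
  · rw [Category.assoc, ← hf, morphismRestrict_ι_assoc]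
  · rw [← Category.assoc]
    congr 1

theorem exists_glue [IsSeparated pY] (W : Xt.Opens)
    (hW : ∀ x ∈ W, ∃ O ≤ W, x ∈ O ∧ Good pX pY q f O) :
    ∃ ft : W.toScheme ⟶ Y, W.ι ≫ q ≫ pX = ft ≫ pY ∧
      Xt.homOfLE (inf_le_left : W ⊓ q ⁻¹ᵁ U ≤ W) ≫ ft =
        q.resLE U (W ⊓ q ⁻¹ᵁ U) inf_le_right ≫ f := by
  choose O hOW hxO g I hg hagree hI hsupp using fun x : W.toScheme => hW x.1 x.2
  let 𝒰 : W.toScheme.OpenCover := W.toScheme.openCoverOfIsOpenCover (fun x => W.ι ⁻¹ᵁ O x)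
    (top_unique fun x _ => Opens.mem_iSup.mpr ⟨x, hxO x⟩)
  let m : ∀ x, (W.ι ⁻¹ᵁ O x).toScheme ⟶ (O x).toScheme := fun x => W.ι.resLE (O x) _ le_rfl
  have hm : ∀ x, m x ≫ (O x).ι = (W.ι ⁻¹ᵁ O x).ι ≫ W.ι := fun x => Scheme.Hom.resLE_comp_ι _ _
  have compat : ∀ x y, pullback.fst (W.ι ⁻¹ᵁ O x).ι (W.ι ⁻¹ᵁ O y).ι ≫ m x ≫ g x =
      pullback.snd (W.ι ⁻¹ᵁ O x).ι (W.ι ⁻¹ᵁ O y).ι ≫ m y ≫ g y := by
    intro x y
    let P := pullback (W.ι ⁻¹ᵁ O x).ι (W.ι ⁻¹ᵁ O y).ι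
    let a : P ⟶ (O x).toScheme := pullback.fst _ _ ≫ m x
    let b : P ⟶ (O y).toScheme := pullback.snd _ _ ≫ m y
    have hab : a ≫ (O x).ι = b ≫ (O y).ι := by
      simp only [a, b, Category.assoc, hm]
      rw [pullback.condition_assoc]
    have : IsOpenImmersion a := by
      have : IsOpenImmersion (a ≫ (O x).ι) := by
        simp only [a, Category.assoc, hm]; infer_instance
      exact IsOpenImmersion.of_comp a (O x).ι
    show pullback.fst _ _ ≫ m x ≫ g x = _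
    rw [← Category.assoc, ← Category.assoc]
    refine eq_of_eq_off_cartier pY ?_ (GrothLib.BlowUp.isEffCartierIdeal_comap_of_flat a (hI x)) ?_
    · simp only [Category.assoc, hg]
      rw [← Category.assoc (m x), hm, ← Category.assoc (m y), hm]
      simp only [Category.assoc, pullback.condition_assoc]
    · let V : P.Opens := ((I x).comap a).support.compl
      show V.ι ≫ a ≫ g x = V.ι ≫ b ≫ g y
      have hU : ∀ t : V.toScheme, (O x).ι (a (V.ι t)) ∈ q ⁻¹ᵁ U := fun t => hsupp x _ fun h => t.2 (by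
        show (V.ι t) ∈ (((I x).comap a).support : Set P)
        rw [Scheme.IdealSheafData.support_comap]
        exact h)
      have hx : Set.range (V.ι ≫ a ≫ (O x).ι) ⊆ Set.range (O x ⊓ q ⁻¹ᵁ U).ι := by
        rintro _ ⟨t, rfl⟩
        rw [Scheme.Opens.range_ι]
        exact ⟨(a (V.ι t)).2, hU t⟩
      have hy : Set.range (V.ι ≫ b ≫ (O y).ι) ⊆ Set.range (O y ⊓ q ⁻¹ᵁ U).ι := by
        rintro _ ⟨t, rfl⟩
        rw [Scheme.Opens.range_ι]
        refine ⟨(b (V.ι t)).2, ?_⟩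
        rw [← hab]
        exact hU t
      let lx := IsOpenImmersion.lift (O x ⊓ q ⁻¹ᵁ U).ι _ hx
      let ly := IsOpenImmersion.lift (O y ⊓ q ⁻¹ᵁ U).ι _ hy
      have hlx : lx ≫ Xt.homOfLE inf_le_left = V.ι ≫ a := by
        rw [← cancel_mono (O x).ι, Category.assoc, Scheme.homOfLE_ι, IsOpenImmersion.lift_fac]
        simp only [a, b, Category.assoc]
      have hly : ly ≫ Xt.homOfLE inf_le_left = V.ι ≫ b := by
        rw [← cancel_mono (O y).ι, Category.assoc, Scheme.homOfLE_ι, IsOpenImmersion.lift_fac]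
        simp only [a, b, Category.assoc]
      rw [← reassoc_of% hlx, ← reassoc_of% hly, hagree, hagree]
      rw [← Category.assoc, ← Category.assoc]
      congr 1
      rw [← cancel_mono U.ι]
      simp only [Category.assoc, Scheme.Hom.resLE_comp_ι, lx, ly, IsOpenImmersion.lift_fac_assoc]
      rw [reassoc_of% hab]
  refine ⟨𝒰.glueMorphisms (fun x => m x ≫ g x) compat, ?_, ?_⟩
  · refine 𝒰.hom_ext _ _ fun x => ?_
    rw [Scheme.Cover.ι_glueMorphisms_assoc]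
    show (W.ι ⁻¹ᵁ O x).ι ≫ W.ι ≫ q ≫ pX = (m x ≫ g x) ≫ pY
    rw [Category.assoc, hg, reassoc_of% hm x]
  · let W' := W ⊓ q ⁻¹ᵁ U
    let 𝒱 : W'.toScheme.OpenCover := W'.toScheme.openCoverOfIsOpenCover
      (fun x : W.toScheme => W'.ι ⁻¹ᵁ O x)
      (top_unique fun t _ => Opens.mem_iSup.mpr ⟨⟨t.1, t.2.1⟩, hxO ⟨t.1, t.2.1⟩⟩)
    refine 𝒱.hom_ext _ _ fun x => ?_
    show (W'.ι ⁻¹ᵁ O x).ι ≫ Xt.homOfLE inf_le_left ≫ _ = (W'.ι ⁻¹ᵁ O x).ι ≫ _ ≫ f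
    have hr : Set.range ((W'.ι ⁻¹ᵁ O x).ι ≫ W'.ι) ⊆ Set.range (O x ⊓ q ⁻¹ᵁ U).ι := by
      rintro _ ⟨t, rfl⟩
      rw [Scheme.Opens.range_ι]
      exact ⟨t.2, t.1.2.2⟩
    let l := IsOpenImmersion.lift (O x ⊓ q ⁻¹ᵁ U).ι _ hr
    let n : (W'.ι ⁻¹ᵁ O x).toScheme ⟶ (W.ι ⁻¹ᵁ O x).toScheme :=
      (Xt.homOfLE (inf_le_left : W' ≤ W)).resLE _ _ (by
        intro t ht
        show W.ι (Xt.homOfLE inf_le_left t) ∈ O x
        rw [← Scheme.Hom.comp_apply, Scheme.homOfLE_ι]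
        exact ht)
    have hn : n ≫ (W.ι ⁻¹ᵁ O x).ι = (W'.ι ⁻¹ᵁ O x).ι ≫ Xt.homOfLE inf_le_left :=
      Scheme.Hom.resLE_comp_ι _ _
    have hnl : n ≫ m x = l ≫ Xt.homOfLE inf_le_left := by
      rw [← cancel_mono (O x).ι]
      simp only [Category.assoc, hm, reassoc_of% hn, Scheme.homOfLE_ι, l, IsOpenImmersion.lift_fac]
    rw [← reassoc_of% hn]
    refine (congrArg (n ≫ ·) (Scheme.Cover.ι_glueMorphisms 𝒰 (fun x => m x ≫ g x) compat x)).trans ?_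
    refine ((Category.assoc n (m x) (g x)).symm.trans (congrArg (· ≫ g x) hnl)).trans ?_
    rw [Category.assoc, hagree, ← Category.assoc, ← Category.assoc]
    congr 1
    rw [← cancel_mono U.ι]
    simp only [Category.assoc, Scheme.Hom.resLE_comp_ι, l, IsOpenImmersion.lift_fac_assoc]
    rfl

end GrothLib.QuasiDom6
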