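import Groth.Agent.Lib.FgSupport6.Exists
import Groth.Prelude.Def_BlowUp2

/-!
# Numerators of sections on a quasi-compact open

A section on a quasi-compact open, multiplied with a high power of an ideal of finite type cutting out
the complement, extends; the extensions lie in an ideal sheaf of finite type.
-/

universe u

open CategoryTheory Limits AlgebraicGeometry Opposite TopologicalSpace

namespace GrothLib.QuasiDom6

open GrothLib.Thickening (res res_res res_self)

variable {X : Scheme.{u}}

/-- The ideal of sections restricting to `t` times a section of `I`. -/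
noncomputable def numerIdeal (U : X.Opens) (t : Γ(X, U)) (I : X.IdealSheafData) (W : X.affineOpens) :
    Ideal Γ(X, W.1) where
  carrier := {a | ∃ d ∈ I.ideal W,
    res (inf_le_left (b := U)) a = res (inf_le_right (a := W.1)) t * res inf_le_left d}
  zero_mem' := ⟨0, zero_mem _, by simp⟩
  add_mem' := by
    rintro a b ⟨d, hd, ha⟩ ⟨d', hd', hb⟩
    exact ⟨d + d', add_mem hd hd', by rw [map_add, ha, hb, map_add, mul_add]⟩
  smul_mem' := by
    rintro c a ⟨d, hd, ha⟩
    exact ⟨c * d, Ideal.mul_mem_left _ c hd, by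
      rw [smul_eq_mul, map_mul, ha, map_mul]; ring⟩

/-- Vanishing on a basic open of a quasi-compact open gives torsion. -/
theorem exists_pow_mul_res_eq_zero [QuasiSeparatedSpace X] (U : X.Opens) (hU : IsCompact (U : Set X))
    (W : X.affineOpens) (g : Γ(X, W.1)) (x : Γ(X, W.1 ⊓ U))
    (hx : res (le_inf (inf_le_left.trans (X.basicOpen_le g)) inf_le_right : X.basicOpen g ⊓ U ≤ W.1 ⊓ U) x = 0) :
    ∃ n : ℕ, res (inf_le_left (b := U)) g ^ n * x = 0 := by
  have hc : IsCompact ((W.1 ⊓ U : X.Opens) : Set X) :=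
    QuasiSeparatedSpace.inter_isCompact _ _ W.1.2 W.2.isCompact U.2 hU
  refine exists_pow_mul_eq_zero_of_res_basicOpen_eq_zero_of_isCompact X hc x _ ?_
  have hle : X.basicOpen (res (inf_le_left (b := U)) g) ≤ X.basicOpen g ⊓ U := by
    rw [Thickening.basicOpen_res']
    exact le_inf inf_le_right (inf_le_left.trans inf_le_right)
  have := congrArg (res hle) hx
  rw [map_zero, res_res] at this
  exact this

/-- The sheaf of numerators. -/
noncomputable def numer [QuasiSeparatedSpace X] (U : X.Opens) (hU : IsCompact (U : Set X)) (t : Γ(X, U))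
    (I : X.IdealSheafData) : X.IdealSheafData where
  ideal := numerIdeal U t I
  map_ideal_basicOpen W g := by
      let r : Γ(X, W.1) →+* Γ(X, X.basicOpen g) := res (X.basicOpen_le g)
      have hgU : X.basicOpen g ⊓ U ≤ W.1 ⊓ U := le_inf (inf_le_left.trans (X.basicOpen_le g)) inf_le_right
      refine le_antisymm (Ideal.map_le_iff_le_comap.mpr ?_) ?_
      · rintro a ⟨d, hd, ha⟩
        refine ⟨r d, ((I.map_ideal_basicOpen W g).le (Ideal.mem_map_of_mem _ hd)), ?_⟩
        have := congrArg (res hgU) ha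
        rw [map_mul, res_res, res_res, res_res] at this
        show res (inf_le_left (b := U) : X.basicOpen g ⊓ U ≤ X.basicOpen g) (res (X.basicOpen_le g) a) =
          res (inf_le_right : X.basicOpen g ⊓ U ≤ U) t *
            res (inf_le_left : X.basicOpen g ⊓ U ≤ X.basicOpen g) (res (X.basicOpen_le g) d)
        rw [res_res, res_res]
        exact this
      · rintro (a : Γ(X, X.basicOpen g)) ⟨(d : Γ(X, X.basicOpen g)), hd, ha⟩
        have ha' : res (inf_le_left : X.basicOpen g ⊓ U ≤ X.basicOpen g) a =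
            res (inf_le_right : X.basicOpen g ⊓ U ≤ U) t *
              res (inf_le_left : X.basicOpen g ⊓ U ≤ X.basicOpen g) d := ha
        let := r.toAlgebra
        have hloc : IsLocalization.Away g Γ(X, X.basicOpen g) := W.2.isLocalization_basicOpen g
        obtain ⟨⟨a₀, ⟨_, p, rfl⟩⟩, ha₀⟩ := IsLocalization.surj (Submonoid.powers g) a
        change a * r (g ^ p) = r a₀ at ha₀
        have hd' : d ∈ (I.ideal W).map r := ((I.map_ideal_basicOpen W g).ge hd)
        obtain ⟨⟨d₀, ⟨_, p', rfl⟩⟩, hd₀⟩ :=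
          (IsLocalization.mem_map_algebraMap_iff (Submonoid.powers g) _).mp hd'
        change d * r (g ^ p') = r d₀.1 at hd₀
        let x : Γ(X, W.1 ⊓ U) := res inf_le_left (a₀ * g ^ p') -
          res inf_le_right t * res inf_le_left (d₀.1 * g ^ p)
        have hx : res hgU x = 0 := by
          show res hgU (res inf_le_left (a₀ * g ^ p') - _) = 0
          rw [map_sub, map_mul (res hgU), res_res, res_res, res_res]
          rw [← res_res (X.basicOpen_le g) inf_le_left, ← res_res (X.basicOpen_le g) inf_le_left]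
          show res inf_le_left (r (a₀ * g ^ p')) - res inf_le_right t * res inf_le_left (r (d₀.1 * g ^ p)) = 0
          rw [map_mul r, map_mul r, ← ha₀, ← hd₀, map_mul, map_mul, map_mul, map_mul, ha']
          ring
        obtain ⟨n, hn⟩ := exists_pow_mul_res_eq_zero U hU W g x hx
        refine (IsLocalization.mem_map_algebraMap_iff (Submonoid.powers g) _).mpr
          ⟨⟨⟨g ^ n * (a₀ * g ^ p'), g ^ n * (d₀.1 * g ^ p),
            Ideal.mul_mem_left _ _ (Ideal.mul_mem_right _ _ d₀.2), ?_⟩,
            ⟨g ^ (n + p + p'), ⟨_, rfl⟩⟩⟩, ?_⟩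
        · rw [map_mul, map_mul (res inf_le_left) (g ^ n), map_pow]
          rw [mul_left_comm, ← sub_eq_zero, ← mul_sub]
          exact hn
        · show a * r (g ^ (n + p + p')) = r (g ^ n * (a₀ * g ^ p'))
          rw [pow_add, pow_add, map_mul, map_mul, map_mul, map_mul, ← ha₀]
          ring

/-- The conductor: sections whose product with `t` extends over the affine open. -/
noncomputable def condIdeal (U : X.Opens) (t : Γ(X, U)) (W : X.affineOpens) : Ideal Γ(X, W.1) where
  carrier := {d | ∃ a : Γ(X, W.1),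
    res (inf_le_left (b := U)) a = res (inf_le_right (a := W.1)) t * res inf_le_left d}
  zero_mem' := ⟨0, by simp⟩
  add_mem' := by
    rintro d d' ⟨a, ha⟩ ⟨b, hb⟩
    exact ⟨a + b, by rw [map_add, ha, hb, map_add, mul_add]⟩
  smul_mem' := by
    rintro c d ⟨a, ha⟩
    exact ⟨c * a, by rw [smul_eq_mul, map_mul, map_mul, ha]; ring⟩

/-- A power of a function supported inside `U` lies in the conductor. -/
theorem mem_radical_condIdeal [QuasiSeparatedSpace X] (U : X.Opens) (hU : IsCompact (U : Set X))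
    (t : Γ(X, U)) (W : X.affineOpens) (g : Γ(X, W.1)) (hg : X.basicOpen g ≤ U) :
    g ∈ (condIdeal U t W).radical := by
  obtain ⟨a, n, ha⟩ := Thickening.exists_res_mul W.2 g rfl (X.basicOpen_le g) (res hg t)
  have hgU : X.basicOpen g ⊓ U ≤ W.1 ⊓ U := le_inf (inf_le_left.trans (X.basicOpen_le g)) inf_le_right
  let x : Γ(X, W.1 ⊓ U) := res inf_le_left a - res inf_le_right t * res inf_le_left (g ^ n)
  have hx : res hgU x = 0 := by
    have h := congrArg (res (inf_le_left (b := U) : X.basicOpen g ⊓ U ≤ X.basicOpen g)) ha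
    rw [map_mul, map_pow, res_res, res_res, res_res] at h
    show res hgU (res inf_le_left a - _) = 0
    rw [map_sub, map_mul, map_pow, map_pow, res_res, res_res, res_res, ← h, sub_self]
  obtain ⟨p, hp⟩ := exists_pow_mul_res_eq_zero U hU W g x hx
  refine ⟨p + n, g ^ p * a, ?_⟩
  rw [map_mul, pow_add, map_mul, mul_left_comm, ← sub_eq_zero, ← mul_sub, map_pow]
  exact hp

/-- Numerators for a finite family of sections on a quasi-compact open. -/
theorem exists_numerators [CompactSpace X] [QuasiSeparatedSpace X] (U : X.Opens)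
    (hU : IsCompact (U : Set X)) {ι : Type*} [Fintype ι] (t : ι → Γ(X, U)) :
    ∃ (D : X.IdealSheafData) (A : ι → X.IdealSheafData), BlowUp.IsFiniteTypeIdeal D ∧
      (∀ l, BlowUp.IsFiniteTypeIdeal (A l)) ∧ (D.support : Set X) = (U : Set X)ᶜ ∧
      (∀ l (W : X.affineOpens), (A l).ideal W ≤ numerIdeal U (t l) D W) ∧
      ∀ x : X, ∃ W : X.affineOpens, x ∈ W.1 ∧ ∀ l, ∃ (G : Finset Γ(X, W.1)),
        Ideal.span (G : Set Γ(X, W.1)) = D.ideal W ∧ ∀ d ∈ G, ∃ a ∈ (A l).ideal W,
          res (inf_le_left (b := U)) a = res (inf_le_right (a := W.1)) (t l) * res inf_le_left d := by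
  classical
  obtain ⟨D₁, hD₁, hs⟩ := FgSupport6.exists_fg_support_eq U hU
  let 𝒰 := X.affineCover.finiteSubcover
  have hcov : ∀ y : X, ∃ i, y ∈ (𝒰.f i).opensRange := fun y => ⟨_, 𝒰.covers y⟩
  let W : 𝒰.I₀ → X.affineOpens := fun i => ⟨(𝒰.f i).opensRange, isAffineOpen_opensRange _⟩
  have hN : ∀ k l, ∃ N : ℕ, D₁.ideal (W k) ^ N ≤ condIdeal U (t l) (W k) := by
    intro k l
    refine Ideal.exists_pow_le_of_le_radical_of_fg (fun g hg => ?_) (hD₁ (W k))
    refine mem_radical_condIdeal U hU (t l) (W k) g fun y hy => ?_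
    by_contra hyU
    have hys : y ∈ D₁.support := by rw [← SetLike.mem_coe, hs]; exact hyU
    exact (Scheme.mem_zeroLocus_iff _ _ _).mp
      ((Scheme.IdealSheafData.mem_support_iff_of_mem (U := W k) (X.basicOpen_le g hy)).mp hys) g hg hy
  choose N hN using hN
  let M := (Finset.univ.sup fun kl : 𝒰.I₀ × ι => N kl.1 kl.2) + 1
  let D := D₁ ^ M
  have hDideal : ∀ V, D.ideal V = D₁.ideal V ^ M := fun V => by
    simp [D, Scheme.IdealSheafData.ideal_pow]
  have hDfg : BlowUp.IsFiniteTypeIdeal D := fun V => by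
    rw [hDideal]; exact (hD₁ V).pow (n := M)
  choose G hG using fun k => hDfg (W k)
  have hnum : ∀ l k (d : G k), ∃ a : Γ(X, (W k).1),
      res (inf_le_left (b := U)) a = res (inf_le_right (a := (W k).1)) (t l) * res inf_le_left d.1 := by
    intro l k d
    have h1 : (d : Γ(X, (W k).1)) ∈ D₁.ideal (W k) ^ M := by
      rw [← hDideal, ← hG k]; exact Ideal.subset_span d.2
    exact hN k l (Ideal.pow_le_pow_right (Nat.le_succ_of_le
      (Finset.le_sup (f := fun kl : 𝒰.I₀ × ι => N kl.1 kl.2) (Finset.mem_univ (k, l)))) h1)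
  choose a ha using hnum
  have hmem : ∀ l k, ((G k).attach.image (a l k) : Set Γ(X, (W k).1)) ⊆
      (numer U hU (t l) D).ideal (W k) := by
    intro l k x hx
    obtain ⟨d, -, rfl⟩ := Finset.mem_image.mp hx
    exact ⟨d.1, (hG k).le (Ideal.subset_span d.2), ha l k d⟩
  choose A hAle hAfg hAmem using fun l =>
    FgSupport6.exists_fg_le W (numer U hU (t l) D) (fun k => (G k).attach.image (a l k)) (hmem l)
  refine ⟨D, A, hDfg, fun l => FgSupport6.fg_of_cover (A l) W hcov (hAfg l), ?_, hAle, fun x => ?_⟩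
  · rw [← hs]
    exact congrArg _ (Scheme.IdealSheafData.support_pow _ _ (Nat.succ_ne_zero _))
  · obtain ⟨k, hk⟩ := hcov x
    exact ⟨W k, hk, fun l => ⟨G k, hG k, fun d hd => ⟨a l k ⟨d, hd⟩,
      hAmem l k (Finset.mem_image_of_mem _ (Finset.mem_attach _ _)), ha l k ⟨d, hd⟩⟩⟩⟩

end GrothLib.QuasiDom6
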